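import Groth.Agent.Lib.QuotSt.Repr
import Groth.Agent.Lib.QuotStFpqc.Descend
import Groth.Agent.Lib.DescAlg.Effective.Fpqc
import Groth.Agent.Lib.TorsorSch.Descent

/-!
# The descended sheaf of torsors along an fpqc covering is a scheme
-/

set_option autoImplicit false
set_option backward.isDefEq.respectTransparency false
set_option backward.isDefEq.respectTransparency.types false

universe u

open CategoryTheory CategoryTheory.Limits MonoidalCategory CartesianMonoidalCategory MonObj GrpObj AlgebraicGeometry Opposite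

namespace Groth.Agent.Lib.QuotStFpqc

open AlgSt (QuotObj QuotSt)
open AlgSp (Sp yon RepWith)
open QuotSt.Descended

/-- The topology of a precoverage coarser than the fpqc one. -/
theorem le_Jq {S : Scheme.{u}} {K : Precoverage Scheme.{u}} (hK : K ≤ Scheme.fpqcPrecoverage) :
    QuotSh.J K S ≤ Jq S := fun _ R hR => by
  rw [GrothendieckTopology.mem_over_iff] at hR ⊢
  exact Precoverage.toGrothendieck_mono hK _ hR

/-- The descended sheaf is a scheme. -/
theorem exists_rep {S : Scheme.{u}} {K : Precoverage Scheme.{u}} [K.HasIsos] [K.IsStableUnderBaseChange]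
    [K.IsStableUnderComposition] (hK : K ≤ Scheme.fpqcPrecoverage) {G X : Over S} [GrpObj G]
    {aX : AlgGrp.Action G X} [IsAffineHom G.hom] {U : Over S} {R : Sieve U}
    (H : Stk.sieveCat R ⥤ᵇ AlgSt.QuotSt K G aX) (hR : R ∈ QuotSh.J K S U) :
    ∃ (W : Over S) (w : W ⟶ U) (e : (yon S).obj W ≅ sh H), e.hom ≫ shHom H = (yon S).map w := by
  obtain ⟨R₀, hR₀, hmem⟩ := QuotSt.exists_family hR
  have hK' := hK _ hR₀
  have hcov := fun O : U.left.affineOpens => TorsorSch.Descent.exists_affine_cover hK' O.1 O.2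
  choose T hT q hqs hqf hqc 𝒱 hV using hcov
  choose S' g₀ hg₀ b hb using hV
  let u (O : U.left.affineOpens) : T O ⟶ U.left := q O ≫ O.1.ι
  have hu : Presieve.ofArrows T u ∈ Scheme.fpqcPrecoverage U.left := by
    haveI : ∀ O, Flat (q O) := hqf
    refine ⟨?_, (Scheme.ofArrows_mem_precoverage_iff (P := @Flat)).2 ⟨fun s => ?_, fun O => inferInstance⟩⟩
    · rw [show Presieve.ofArrows T u = (PreZeroHypercover.mk U.left.affineOpens T u).presieve₀ from rfl,
        Scheme.presieve₀_mem_qcPrecoverage_iff]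
      refine ⟨fun {W} hW => ?_⟩
      refine IsCompactOpenCovered.of_finite (κ := PUnit) (fun _ => (⟨W, hW⟩ : U.left.affineOpens))
        (fun _ => ⊤) (fun _ => ?_) ?_
      · haveI : IsAffine (T ⟨W, hW⟩) := hT _
        exact CompactSpace.isCompact_univ
      · haveI := hqs ⟨W, hW⟩
        simp only [TopologicalSpace.Opens.coe_top, Set.image_univ]
        rw [Set.iUnion_const]
        change Set.range (q ⟨W, hW⟩ ≫ W.ι) = _
        rw [Scheme.Hom.comp_base, TopCat.coe_comp, Set.range_comp, (q ⟨W, hW⟩).surjective.range_eq,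
          Set.image_univ, Scheme.Opens.range_ι]
    · obtain ⟨W, hW, hs, -⟩ := exists_isAffineOpen_mem_and_subset (TopologicalSpace.Opens.mem_top s)
      obtain ⟨z, hz⟩ := (hqs ⟨W, hW⟩).surj ⟨s, hs⟩
      exact ⟨⟨W, hW⟩, z, by simp [u, hz]⟩
  let I := Σ O : U.left.affineOpens, (𝒱 O).I₀
  let v (j : I) : (𝒱 j.1).X j.2 ⟶ U.left := (𝒱 j.1).f j.2 ≫ u j.1
  let a (j : I) : (Stk.sieveCat R).obj :=
    mem (Over.homMk (v j) : Over.mk (v j ≫ U.hom) ⟶ U) (by
      have e : (Over.homMk (v j) : Over.mk (v j ≫ U.hom) ⟶ U) =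
          (Over.homMk (b j.1 j.2) (by
            change b j.1 j.2 ≫ g₀ j.1 j.2 ≫ U.hom = v j ≫ U.hom
            rw [reassoc_of% (hb j.1 j.2)]
            simp [v, u]) : Over.mk (v j ≫ U.hom) ⟶ Over.mk (g₀ j.1 j.2 ≫ U.hom)) ≫ Over.homMk (g₀ j.1 j.2) :=
        Over.OverMorphism.ext (by simpa [v, u] using (hb j.1 j.2).symm)
      rw [e]
      exact R.downward_closed (hmem _ (hg₀ j.1 j.2)) _)
  let Z (j : I) : Over S := (a j).obj.left
  let T'' : Over S := Over.mk (Sigma.desc u ≫ U.hom)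
  let ιZ (j : I) : Z j ⟶ T'' := Over.homMk ((𝒱 j.1).f j.2 ≫ Sigma.ι T j.1) (by
    change ((𝒱 j.1).f j.2 ≫ Sigma.ι T j.1) ≫ Sigma.desc u ≫ U.hom = v j ≫ U.hom
    simp [v])
  haveI : ∀ j, IsOpenImmersion (ιZ j).left := fun j =>
    inferInstanceAs (IsOpenImmersion ((𝒱 j.1).f j.2 ≫ Sigma.ι T j.1))
  have hιZ : ∀ x : T''.left, ∃ (j : I) (z : (Z j).left), (ιZ j).left z = x := fun x => by
    obtain ⟨O, y, rfl⟩ := (sigmaOpenCover T).exists_eq x
    obtain ⟨i, z, rfl⟩ := (𝒱 O).exists_eq y
    exact ⟨⟨O, i⟩, z, rfl⟩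
  let p : T'' ⟶ U := Over.homMk (Sigma.desc u) rfl
  have hιp : ∀ j, ιZ j ≫ p = (a j).obj.hom := fun j =>
    Over.OverMorphism.ext (((Category.assoc _ _ _).trans (by rw [Sigma.ι_desc])) :
      ((𝒱 j.1).f j.2 ≫ Sigma.ι T j.1) ≫ Sigma.desc u = v j)
  have hp : FFDesc.fpqcCover p.left := DescAlg.Effective.Fpqc.fpqcCover_sigmaDesc hu
  have sq := IsPullback.of_hasPullback (shHom H) ((yon S).map p)
  let π' (t : I) : (H.obj (a t)).P ⟶ Z t := (H.obj (a t)).π ≫ eqToHom (base_eq H (a t))
  let g (t : I) : (yon S).obj (H.obj (a t)).P ⟶ pullback (shHom H) ((yon S).map p) :=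
    pullback.lift (incl H (a t)) ((yon S).map (π' t ≫ ιZ t)) (by
      rw [(isPullback_incl H (a t)).w, ← Functor.map_comp, ← Functor.map_comp, Category.assoc _ _ p, hιp])
  have hg : ∀ t, IsPullback (g t) ((yon S).map (π' t)) (pullback.snd (shHom H) ((yon S).map p))
      ((yon S).map (ιZ t)) := fun t => by
    refine IsPullback.of_right ?_ (by simp [g]) sq
    have h := isPullback_incl H (a t)
    rw [← hιp, Functor.map_comp] at h
    rw [show g t ≫ pullback.fst _ _ = incl H (a t) from pullback.lift_fst _ _ _]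
    exact h
  have hgo : ∀ t, RepWith @IsOpenImmersion (g t) := fun t =>
    AlgSpace.repWith_baseChange (hg t).flip ((AlgSp.repWith_yon_map_iff _ _).2 inferInstance)
  obtain ⟨Q, φ, inj, hφ, hinj, hinjo, hinjs⟩ := UnivThick.OpenCover.exists_scheme_iso hgo fun T₁ b₁ x => by
    obtain ⟨m, hm⟩ := (yon S).map_surjective (b₁ ≫ pullback.snd _ _)
    obtain ⟨i, z, hz⟩ := hιZ (m.left x)
    have sqm := (IsPullback.of_hasPullback m (ιZ i)).map (Over.forget S)
    obtain ⟨y, hy, -⟩ := Scheme.exists_preimage_of_isPullback sqm x z hz.symm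
    let l := (hg i).lift ((yon S).map (pullback.fst m (ιZ i)) ≫ b₁)
      ((yon S).map (pullback.snd m (ιZ i))) (by
        rw [Category.assoc, ← hm, ← Functor.map_comp, ← Functor.map_comp, pullback.condition])
    obtain ⟨r, hr⟩ := (yon S).map_surjective (((hgo i).1.isPullback' b₁).lift l
      ((yon S).map (pullback.fst m (ιZ i))) ((hg i).lift_fst _ _ _))
    refine ⟨i, r.left y, ?_⟩
    have : r ≫ (hgo i).1.snd b₁ = pullback.fst m (ιZ i) :=
      (yon S).map_injective (by rw [Functor.map_comp, hr]; exact IsPullback.lift_snd _ _ _ _)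
    rw [← Scheme.Hom.comp_apply, ← Over.comp_left, this]
    exact hy
  obtain ⟨w'', hw''⟩ := (yon S).map_surjective (φ ≫ pullback.snd (shHom H) ((yon S).map p))
  have sq' : IsPullback (φ ≫ pullback.fst _ _) ((yon S).map w'') (shHom H) ((yon S).map p) :=
    sq.of_iso (asIso φ).symm (Iso.refl _) (Iso.refl _) (Iso.refl _) (by simp) (by simp [hw'']) (by simp) (by simp)
  have sqi : ∀ t, IsPullback (inj t) (π' t) w'' (ιZ t) := fun t =>
    AlgSpace.isPullback_of_yon_map ((hg t).of_iso (Iso.refl _) (asIso φ).symm (Iso.refl _) (Iso.refl _)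
      (by simp [← hinj t]) (by simp) (by simp [hw'']) (by simp))
  have haff : IsAffineHom w''.left := by
    let 𝒲 : T''.left.OpenCover :=
      Scheme.Cover.mkOfCovers I (fun t => (Z t).left) (fun t => (ιZ t).left) hιZ (fun t => inferInstance)
    rw [IsZariskiLocalAtTarget.iff_of_openCover (P := @IsAffineHom) 𝒲]
    intro t
    have sqt := ((sqi t).map (Over.forget S))
    change IsAffineHom (pullback.snd w''.left (ιZ t).left)
    have hπ : IsAffineHom (π' t).left := by
      have := QuotSt.property_π (P := @IsAffineHom) hK (H.obj (a t)) ‹_›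
      change IsAffineHom ((H.obj (a t)).π.left ≫ (eqToHom (base_eq H (a t))).left)
      infer_instance
    refine (MorphismProperty.cancel_left_of_respectsIso @IsAffineHom sqt.isoPullback.hom _).1 ?_
    erw [sqt.isoPullback_hom_snd]
    exact hπ
  have hF : Presieve.IsSheaf (Jq S) (sh H).obj :=
    (isSheaf_iff_isSheaf_of_type _ _).1 (isSheaf_of H)
  exact exists_iso_yon_of_descent hF hp sq' fun D hD => by
    obtain ⟨U', q', H', -⟩ := FFDesc.exists_isDescended D hp
      (by rw [hD]; exact Ample.Pullback.isQuasiAffine_of_isAffineHom w''.left)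
    exact ⟨U', q', H'⟩

end Groth.Agent.Lib.QuotStFpqc
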