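import Groth.Agent.Lib.QuotSt.Stack
import Groth.Agent.Lib.QuotStFpqc.Repr

/-!
# `[X/G]` is a stack for the fpqc topology when `G` is affine
-/

set_option autoImplicit false
set_option backward.isDefEq.respectTransparency false
set_option backward.isDefEq.respectTransparency.types false

universe u

open CategoryTheory CategoryTheory.Limits AlgebraicGeometry

namespace Groth.Agent.Lib.QuotStFpqc

open AlgSt (QuotSt)
open QuotSt.Descended

variable {S : Scheme.{u}} {K : Precoverage Scheme.{u}} [K.HasIsos] [K.IsStableUnderBaseChange]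
  [K.IsStableUnderComposition] {G X : Over S} [GrpObj G] {aX : AlgGrp.Action G X} [IsAffineHom G.hom]

/-- `[X/G]` is a stack for every topology between the trivial one and the fpqc one. -/
theorem isStack (hK : K ≤ Scheme.fpqcPrecoverage) :
    Stk.IsStack (QuotSh.J K S) (AlgSt.QuotSt K G aX) := by
  refine ⟨QuotSt.isFibGrpd, fun U R hR =>
    (Fibred.Descent.isStackFor_iff (R := R) (QuotSt.isFibGrpd (aX := aX))).2
      ⟨QuotSt.sep (le_Jq hK _ hR), QuotSt.glueHom (le_Jq hK _ hR), fun H => ?_⟩⟩
  obtain ⟨W, w, e, he⟩ := exists_rep hK H hR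
  let D : QuotSt.Rep H := ⟨W, w, e, he⟩
  exact ⟨{
    pt := D.obj (le_Jq hK) hR
    proj := rfl
    «ι» := D.homObj (le_Jq hK) hR
    lifts := fun a => IsHomLift.of_fac' _ _ _ (base_eq H a) rfl
      (show eqToHom (base_eq H a) ≫ a.obj.hom = _ by simp)
    w := fun a b m => D.map_homObj (le_Jq hK) hR m }⟩

end Groth.Agent.Lib.QuotStFpqc
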